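import Cfsg.Agent.Lib.CoverL34.Data

/-!
# The checks on the Cayley graph of `PSL(3,4)`
-/

set_option autoImplicit false

namespace Cfsg.Agent.Lib.CoverL34.Check

open Cfsg.Agent.Lib.CoverL34.Data

/-- Number of vertices. -/
def nV : Nat := 20160
/-- Number of variables. -/
def nX : Nat := 40327

/-- Entry of a table with entries of width `w`, `m = 2 ^ w - 1`. -/
def look (t : T) (w m i : Nat) : Nat :=
  Nat.land (Nat.shiftRight (T.get t (Nat.shiftRight i 6)) (Nat.mul w (Nat.land i 63))) m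

def nxD (v g : Nat) : Nat := look nxT 15 32767 (Nat.add (Nat.mul 2 v) g)
def sD (v g : Nat) : Nat := look sT 2 3 (Nat.add (Nat.mul 2 v) g)
def valD (x : Nat) : Nat := look valT 4 15 x
def rkD (x : Nat) : Nat := look rkT 16 65535 x
def eqD (x : Nat) : Nat := look eqT 18 262143 x
def parD (v : Nat) : Nat := look parT 16 65535 v
def codeD (v : Nat) : Nat := look codeT 18 262143 v

/-- Digit of a code. -/
def dig (c k : Nat) : Nat := Nat.land (Nat.shiftRight c (Nat.mul 2 k)) 3

/-- Multiplication in the field with four elements. -/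
def mulG (a b : Nat) : Nat := Nat.land (Nat.shiftRight 0x9c78e400 (Nat.mul 2 (Nat.add (Nat.mul 4 a) b))) 3

/-- One entry of the product. -/
def entryOK (c1 c2 c3 s i j : Nat) : Bool :=
  Nat.beq
    (Nat.xor (Nat.xor (mulG (dig c1 (Nat.mul 3 i)) (dig c2 j))
      (mulG (dig c1 (Nat.add (Nat.mul 3 i) 1)) (dig c2 (Nat.add 3 j))))
      (mulG (dig c1 (Nat.add (Nat.mul 3 i) 2)) (dig c2 (Nat.add 6 j))))
    (mulG s (dig c3 (Nat.add (Nat.mul 3 i) j)))

/-- The product `c1 * c2 = s c3`. -/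
def eqM (c1 c2 c3 s : Nat) : Bool :=
  entryOK c1 c2 c3 s 0 0 && entryOK c1 c2 c3 s 0 1 && entryOK c1 c2 c3 s 0 2 &&
  entryOK c1 c2 c3 s 1 0 && entryOK c1 c2 c3 s 1 1 && entryOK c1 c2 c3 s 1 2 &&
  entryOK c1 c2 c3 s 2 0 && entryOK c1 c2 c3 s 2 1 && entryOK c1 c2 c3 s 2 2

/-- Codes of the generators. -/
def cG (g : Nat) : Nat := if Nat.beq g 0 then 88651 else 149646

/-- Check on all numbers in a dyadic range. -/
def allBin (p : Nat → Bool) : Nat → Nat → Bool
  | 0, lo => p lo
  | d + 1, lo => allBin p d lo && allBin p d (Nat.add lo (Nat.pow 2 d))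

def edgeOK (v g : Nat) : Bool :=
  Nat.blt (nxD v g) nV && eqM (cG g) (codeD v) (codeD (nxD v g)) (sD v g)

def vertexOK (v : Nat) : Bool :=
  !(Nat.blt v nV) || (edgeOK v 0 && edgeOK v 1)

theorem edges_0 : allBin vertexOK 12 0 = true := by decide +kernel
theorem edges_1 : allBin vertexOK 12 4096 = true := by decide +kernel
theorem edges_2 : allBin vertexOK 12 8192 = true := by decide +kernel
theorem edges_3 : allBin vertexOK 12 12288 = true := by decide +kernel
theorem edges_4 : allBin vertexOK 12 16384 = true := by decide +kernel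

theorem allBin_spec {p : Nat → Bool} : ∀ (d lo : Nat), allBin p d lo = true →
    ∀ i, lo ≤ i → i < lo + 2 ^ d → p i = true := by
  intro d
  induction d with
  | zero =>
    intro lo h i h1 h2
    have : i = lo := by
      simp at h2
      omega
    rw [this]
    exact h
  | succ d ih =>
    intro lo h i h1 h2
    simp only [allBin, Bool.and_eq_true] at h
    have h3 : (2 : Nat) ^ (d + 1) = 2 ^ d + 2 ^ d := by
      rw [Nat.pow_succ]
      omega
    by_cases h4 : i < lo + 2 ^ d
    · exact ih lo h.1 i h1 h4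
    · refine ih _ h.2 i ?_ ?_
      · show lo + 2 ^ d ≤ i
        omega
      · show i < lo + 2 ^ d + 2 ^ d
        omega

theorem edge_spec {v g : Nat} (hv : v < nV) (hg : g = 0 ∨ g = 1) : edgeOK v g = true := by
  have h1 : vertexOK v = true := by
    have h0 : nV = 20160 := rfl
    have h2 : (2 : Nat) ^ 12 = 4096 := rfl
    have h4 : v < 4096 ∨ (4096 ≤ v ∧ v < 8192) ∨ (8192 ≤ v ∧ v < 12288) ∨ (12288 ≤ v ∧ v < 16384) ∨ 16384 ≤ v := by
      omega
    rcases h4 with h4 | h4 | h4 | h4 | h4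
    · exact allBin_spec 12 _ edges_0 v (by omega) (by omega)
    · exact allBin_spec 12 _ edges_1 v h4.1 (by omega)
    · exact allBin_spec 12 _ edges_2 v h4.1 (by omega)
    · exact allBin_spec 12 _ edges_3 v h4.1 (by omega)
    · exact allBin_spec 12 _ edges_4 v h4 (by omega)
  have h3 : Nat.blt v nV = true := by
    rw [Nat.blt_eq]
    exact hv
  simp only [vertexOK, h3, Bool.not_true, Bool.false_or, Bool.and_eq_true] at h1
  rcases hg with rfl | rfl
  · exact h1.1
  · exact h1.2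

theorem nx_lt {v g : Nat} (hv : v < nV) (hg : g = 0 ∨ g = 1) : nxD v g < nV := by
  have h := edge_spec hv hg
  simp only [edgeOK, Bool.and_eq_true] at h
  exact Nat.blt_eq.mp h.1

theorem eqM_edge {v g : Nat} (hv : v < nV) (hg : g = 0 ∨ g = 1) :
    eqM (cG g) (codeD v) (codeD (nxD v g)) (sD v g) = true := by
  have h := edge_spec hv hg
  simp only [edgeOK, Bool.and_eq_true] at h
  exact h.2

/-! ### The tree -/

/-- Parent. -/
def parV (v : Nat) : Nat := Nat.shiftRight (parD v) 1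
/-- Generator to the parent. -/
def pgV (v : Nat) : Nat := Nat.land (parD v) 1

def treeOK (v : Nat) : Bool :=
  !(Nat.blt 0 v && Nat.blt v nV) ||
    (Nat.blt (parV v) v && Nat.beq (nxD (parV v) (pgV v)) v && Nat.beq (sD (parV v) (pgV v)) 1)

theorem all_tree : allBin treeOK 15 0 = true := by decide +kernel

theorem tree_spec {v : Nat} (h0 : 0 < v) (hv : v < nV) :
    parV v < v ∧ nxD (parV v) (pgV v) = v ∧ sD (parV v) (pgV v) = 1 := by
  have h1 := allBin_spec 15 0 all_tree v (Nat.zero_le _) (by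
    have : nV = 20160 := rfl
    have h2 : (2 : Nat) ^ 15 = 32768 := rfl
    omega)
  have h3 : Nat.blt 0 v = true := Nat.blt_eq.mpr h0
  have h4 : Nat.blt v nV = true := Nat.blt_eq.mpr hv
  simp only [treeOK, h3, h4, Bool.and_self, Bool.not_true, Bool.false_or, Bool.and_eq_true] at h1
  exact ⟨Nat.blt_eq.mp h1.1.1, Nat.eq_of_beq_eq_true h1.1.2, Nat.eq_of_beq_eq_true h1.2⟩

theorem pg_cases (v : Nat) : pgV v = 0 ∨ pgV v = 1 := by
  unfold pgV
  have h : Nat.land (parD v) 1 = parD v % 2 := by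
    show parD v &&& 1 = _
    exact Nat.and_one_is_mod _
  rw [h]
  omega

/-! ### Scalars -/

/-- Is the code a scalar matrix? -/
def isScal (c : Nat) : Bool :=
  Nat.beq (dig c 1) 0 && Nat.beq (dig c 2) 0 && Nat.beq (dig c 3) 0 && Nat.beq (dig c 5) 0 &&
    Nat.beq (dig c 6) 0 && Nat.beq (dig c 7) 0 && Nat.beq (dig c 0) (dig c 4) && Nat.beq (dig c 4) (dig c 8)

def scalOK (v : Nat) : Bool := !(Nat.blt 0 v && Nat.blt v nV) || !(isScal (codeD v))

theorem all_scal : allBin scalOK 15 0 = true := by decide +kernel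

theorem scal_spec {v : Nat} (h0 : 0 < v) (hv : v < nV) : isScal (codeD v) = false := by
  have h1 := allBin_spec 15 0 all_scal v (Nat.zero_le _) (by
    have : nV = 20160 := rfl
    have h2 : (2 : Nat) ^ 15 = 32768 := rfl
    omega)
  have h3 : Nat.blt 0 v = true := Nat.blt_eq.mpr h0
  have h4 : Nat.blt v nV = true := Nat.blt_eq.mpr hv
  simp only [scalOK, h3, h4, Bool.and_self, Bool.not_true, Bool.false_or] at h1
  simpa using h1

theorem code_zero : codeD 0 = 65793 := by decide +kernel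

/-! ### The equations -/

/-- The relators. -/
def relL : List (List Nat) :=
  [[0, 0, 0], [1, 1, 1], [0, 1, 0, 1, 0, 1, 0, 1, 0, 1, 0, 1, 0, 1],
   [0, 1, 0, 1, 1, 0, 1, 0, 1, 1, 0, 1, 0, 1, 1],
   [0, 1, 1, 0, 1, 1, 0, 1, 1, 0, 1, 1, 0, 1, 1, 0, 1, 1, 0, 1, 1],
   [0, 0, 1, 0, 0, 1, 1, 0, 0, 1, 0, 0, 1, 1, 0, 0, 1, 0, 0, 1, 1],
   [0, 1, 0, 0, 1, 1, 0, 1, 0, 0, 1, 1, 0, 1, 0, 0, 1, 1, 0, 1, 0, 0, 1, 1]]

/-- A relator. -/
def rel (j : Nat) : List Nat := relL.getD j []

/-- The edges of a path. -/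
def edgesOf : Nat → List Nat → List Nat
  | _, [] => []
  | v, g :: w => Nat.add (Nat.mul 2 v) g :: edgesOf (nxD v g) w

/-- The end of a path. -/
def pathEnd : Nat → List Nat → Nat
  | v, [] => v
  | v, g :: w => pathEnd (nxD v g) w

/-- The variables of an equation. -/
def eqVars (v j : Nat) : List Nat := Nat.add (Nat.mul 2 nV) j :: edgesOf v (rel j)

/-- Sum of masks. -/
def xorAll : List Nat → Nat
  | [] => 0
  | y :: L => Nat.xor (valD y) (xorAll L)

/-- Parity of the number of occurrences. -/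
def oddCount (x : Nat) : List Nat → Bool
  | [] => false
  | y :: L => if Nat.beq y x then !(oddCount x L) else oddCount x L

/-- All others are smaller. -/
def allLow (x r : Nat) : List Nat → Bool
  | [] => true
  | y :: L => (Nat.beq y x || (Nat.blt y nX && Nat.blt (rkD y) r)) && allLow x r L

def eqnOK (x : Nat) : Bool :=
  Nat.blt (Nat.shiftRight (eqD x) 3) nV && Nat.blt (Nat.land (eqD x) 7) 7 &&
    Nat.beq (pathEnd (Nat.shiftRight (eqD x) 3) (rel (Nat.land (eqD x) 7))) (Nat.shiftRight (eqD x) 3) &&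
    Nat.beq (xorAll (eqVars (Nat.shiftRight (eqD x) 3) (Nat.land (eqD x) 7))) 0 &&
    oddCount x (eqVars (Nat.shiftRight (eqD x) 3) (Nat.land (eqD x) 7)) &&
    allLow x (rkD x) (eqVars (Nat.shiftRight (eqD x) 3) (Nat.land (eqD x) 7))

/-- The base variables. -/
def baseOK (x : Nat) : Bool :=
  if Nat.blt x (Nat.mul 2 nV) then
    !(Nat.beq (nxD (Nat.shiftRight x 1) (Nat.land x 1)) 0) &&
      Nat.beq x (Nat.add (Nat.mul 2 (parV (nxD (Nat.shiftRight x 1) (Nat.land x 1))))
        (pgV (nxD (Nat.shiftRight x 1) (Nat.land x 1)))) &&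
      Nat.beq (valD x) 0
  else
    (Nat.beq x 40320 && Nat.beq (valD x) 0) || (Nat.beq x 40321 && Nat.beq (valD x) 0) ||
    (Nat.beq x 40322 && Nat.beq (valD x) 1) || (Nat.beq x 40323 && Nat.beq (valD x) 2) ||
    (Nat.beq x 40324 && Nat.beq (valD x) 4) || (Nat.beq x 40326 && Nat.beq (valD x) 8)

def varOK (x : Nat) : Bool := !(Nat.blt x nX) || baseOK x || eqnOK x

theorem vars_0 : allBin varOK 12 0 = true := by decide +kernel
theorem vars_1 : allBin varOK 12 4096 = true := by decide +kernel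
theorem vars_2 : allBin varOK 12 8192 = true := by decide +kernel
theorem vars_3 : allBin varOK 12 12288 = true := by decide +kernel
theorem vars_4 : allBin varOK 12 16384 = true := by decide +kernel
theorem vars_5 : allBin varOK 12 20480 = true := by decide +kernel
theorem vars_6 : allBin varOK 12 24576 = true := by decide +kernel
theorem vars_7 : allBin varOK 12 28672 = true := by decide +kernel
theorem vars_8 : allBin varOK 12 32768 = true := by decide +kernel
theorem vars_9 : allBin varOK 12 36864 = true := by decide +kernel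

theorem var_spec {x : Nat} (hx : x < nX) : varOK x = true := by
  have h0 : nX = 40327 := rfl
  have h2 : (2 : Nat) ^ 12 = 4096 := rfl
  have h4 : x < 4096 ∨ (4096 ≤ x ∧ x < 8192) ∨ (8192 ≤ x ∧ x < 12288) ∨ (12288 ≤ x ∧ x < 16384) ∨
      (16384 ≤ x ∧ x < 20480) ∨ (20480 ≤ x ∧ x < 24576) ∨ (24576 ≤ x ∧ x < 28672) ∨ (28672 ≤ x ∧ x < 32768) ∨
      (32768 ≤ x ∧ x < 36864) ∨ 36864 ≤ x := by
    omega
  rcases h4 with h4 | h4 | h4 | h4 | h4 | h4 | h4 | h4 | h4 | h4
  · exact allBin_spec 12 _ vars_0 x (by omega) (by omega)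
  · exact allBin_spec 12 _ vars_1 x h4.1 (by omega)
  · exact allBin_spec 12 _ vars_2 x h4.1 (by omega)
  · exact allBin_spec 12 _ vars_3 x h4.1 (by omega)
  · exact allBin_spec 12 _ vars_4 x h4.1 (by omega)
  · exact allBin_spec 12 _ vars_5 x h4.1 (by omega)
  · exact allBin_spec 12 _ vars_6 x h4.1 (by omega)
  · exact allBin_spec 12 _ vars_7 x h4.1 (by omega)
  · exact allBin_spec 12 _ vars_8 x h4.1 (by omega)
  · exact allBin_spec 12 _ vars_9 x h4 (by omega)

/-- The relations among the parameters. -/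
theorem rel8 : pathEnd 1049 (rel 3) = 1049 ∧ xorAll (eqVars 1049 3) = 8 := by decide +kernel
theorem rel7 : pathEnd 13080 (rel 2) = 13080 ∧ xorAll (eqVars 13080 2) = 7 := by decide +kernel

/-! ### Transvections -/

/-- Entry of a transvection. -/
def tvE (i j l r t : Nat) : Nat :=
  if Nat.beq r i && Nat.beq t j then l else if Nat.beq r t then 1 else 0

def tvEntry (i j l v s r t : Nat) : Bool :=
  Nat.beq (dig (codeD v) (Nat.add (Nat.mul 3 r) t)) (mulG s (tvE i j l r t))

def tvOK (i j l v s : Nat) : Bool :=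
  Nat.blt v nV &&
  tvEntry i j l v s 0 0 && tvEntry i j l v s 0 1 && tvEntry i j l v s 0 2 &&
  tvEntry i j l v s 1 0 && tvEntry i j l v s 1 1 && tvEntry i j l v s 1 2 &&
  tvEntry i j l v s 2 0 && tvEntry i j l v s 2 1 && tvEntry i j l v s 2 2

/-- The vertices of the transvections. -/
def tvL : List (Nat × Nat × Nat × Nat × Nat) :=
  [(0, 1, 1, 20096, 3), (0, 1, 2, 18257, 1), (0, 1, 3, 14347, 1), (0, 2, 1, 19406, 3), (0, 2, 2, 16153, 1),
   (0, 2, 3, 12660, 3), (1, 0, 1, 17042, 3), (1, 0, 2, 13567, 2), (1, 0, 3, 19952, 2), (1, 2, 1, 15889, 1),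
   (1, 2, 2, 9359, 1), (1, 2, 3, 5297, 2), (2, 0, 1, 10575, 3), (2, 0, 2, 16515, 3), (2, 0, 3, 10002, 2),
   (2, 1, 1, 12021, 1), (2, 1, 2, 6688, 3), (2, 1, 3, 13915, 2)]

theorem tv_all : tvL.all (fun e => tvOK e.1 e.2.1 e.2.2.1 e.2.2.2.1 e.2.2.2.2) = true := by decide +kernel

end Cfsg.Agent.Lib.CoverL34.Check
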